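import Groth.Agent.Lib.CurveMult.ExtEnd
import Groth.Agent.Lib.CurveMult.SepRat
import Groth.Agent.Lib.ASBun21.EndSimple
import Mathlib.LinearAlgebra.Matrix.GeneralLinearGroup.Card
import Mathlib.CategoryTheory.Conj
import Mathlib.CategoryTheory.Limits.Shapes.BinaryBiproducts

/-!
# Automorphisms of sums of objects with scalar endomorphisms
-/

set_option autoImplicit false
set_option backward.isDefEq.respectTransparency false

universe v u

open CategoryTheory CategoryTheory.Limits AlgebraicGeometry Matrix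

noncomputable section

namespace GrothLib.AutSum11

section Cat

variable {C : Type u} [Category.{v} C] [Preadditive C] [HasFiniteBiproducts C] [HasBinaryBiproducts C]

/-- Orthogonal summands: endomorphisms split. -/
def endOrth (A B : C) (h₁ : ∀ f : A ⟶ B, f = 0) (h₂ : ∀ f : B ⟶ A, f = 0) :
    End (A ⊞ B) ≃* End A × End B where
  toFun φ := (biprod.inl ≫ φ ≫ biprod.fst, biprod.inr ≫ φ ≫ biprod.snd)
  invFun p := biprod.map p.1 p.2
  left_inv φ := by
    dsimp only
    apply biprod.hom_ext' <;> apply biprod.hom_ext <;> simp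
    · exact (h₁ _).symm
    · exact (h₂ _).symm
  right_inv p := by simp
  map_mul' φ ψ := by
    have e : ∀ (Z W : C) (a : Z ⟶ A ⊞ B) (b : A ⊞ B ⟶ W),
        a ≫ b = (a ≫ biprod.fst) ≫ biprod.inl ≫ b + (a ≫ biprod.snd) ≫ biprod.inr ≫ b := fun Z W a b => by
      calc a ≫ b = a ≫ (biprod.fst ≫ biprod.inl + biprod.snd ≫ biprod.inr) ≫ b := by
            rw [biprod.total, Category.id_comp]
        _ = _ := by simp only [Preadditive.add_comp, Preadditive.comp_add, Category.assoc]
    ext
    · show biprod.inl ≫ (ψ ≫ φ) ≫ biprod.fst = (biprod.inl ≫ ψ ≫ biprod.fst) ≫ (biprod.inl ≫ φ ≫ biprod.fst)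
      rw [Category.assoc, ← Category.assoc biprod.inl ψ, e A A (biprod.inl ≫ ψ) (φ ≫ biprod.fst),
        h₁ ((biprod.inl ≫ ψ) ≫ biprod.snd), zero_comp, add_zero, Category.assoc biprod.inl ψ]
    · show biprod.inr ≫ (ψ ≫ φ) ≫ biprod.snd = (biprod.inr ≫ ψ ≫ biprod.snd) ≫ (biprod.inr ≫ φ ≫ biprod.snd)
      rw [Category.assoc, ← Category.assoc biprod.inr ψ, e B B (biprod.inr ≫ ψ) (φ ≫ biprod.snd),
        h₂ ((biprod.inr ≫ ψ) ≫ biprod.fst), zero_comp, zero_add, Category.assoc biprod.inr ψ]

/-- Orthogonal summands: automorphisms split. -/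
theorem card_aut_orth (A B : C) (h₁ : ∀ f : A ⟶ B, f = 0) (h₂ : ∀ f : B ⟶ A, f = 0) :
    Nat.card (Aut (A ⊞ B)) = Nat.card (Aut A) * Nat.card (Aut B) := by
  rw [← Nat.card_prod]
  exact Nat.card_congr ((Aut.unitsEndEquivAut _).symm.trans ((Units.mapEquiv (endOrth A B h₁ h₂)).trans
    (MulEquiv.prodUnits.trans (MulEquiv.prodCongr (Aut.unitsEndEquivAut A) (Aut.unitsEndEquivAut B))))).toEquiv

theorem card_aut_congr {A B : C} (e : A ≅ B) : Nat.card (Aut A) = Nat.card (Aut B) :=
  Nat.card_congr e.conjAut.toEquiv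

variable {k : Type*} [Field k]

/-- Endomorphisms of a power of an object with scalar endomorphisms are matrices. -/
def endPow (A : C) (φ : k ≃+* End A) (n : ℕ) :
    Matrix (Fin n) (Fin n) k ≃* End (⨁ fun _ : Fin n => A) where
  toFun M := biproduct.matrix fun j i => φ (M i j)
  invFun f i j := φ.symm (biproduct.components f j i)
  left_inv M := by
    funext i j
    simp only [biproduct.matrix_components, RingEquiv.symm_apply_apply]
  right_inv f := by
    refine biproduct.hom_ext' _ _ fun j => biproduct.hom_ext _ _ fun i => ?_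
    simp only [RingEquiv.apply_symm_apply, biproduct.components, Category.assoc, biproduct.matrix_π,
      biproduct.ι_desc]
  map_mul' M N := by
    refine biproduct.hom_ext' _ _ fun j => biproduct.hom_ext _ _ fun i => ?_
    simp only [End.mul_def, Category.assoc, biproduct.matrix_π, biproduct.ι_desc, biproduct.ι_matrix_assoc,
      biproduct.lift_desc, Matrix.mul_apply, map_sum, map_mul]

theorem card_aut_pow [Finite k] (A : C) (φ : k ≃+* End A) (n : ℕ) :
    Nat.card (Aut (⨁ fun _ : Fin n => A)) = ∏ i : Fin n, (Nat.card k ^ n - Nat.card k ^ (i : ℕ)) := by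
  haveI := Fintype.ofFinite k
  have e : GL (Fin n) k ≃* Aut (⨁ fun _ : Fin n => A) :=
    (Units.mapEquiv (endPow A φ n)).trans (Aut.unitsEndEquivAut _)
  rw [← Nat.card_congr e.toEquiv, Matrix.card_GL_field, Nat.card_eq_fintype_card]

theorem card_aut_one [Finite k] (A : C) (φ : k ≃+* End A) : Nat.card (Aut A) = Nat.card k - 1 := by
  haveI := Fintype.ofFinite k
  rw [← Nat.card_units, Nat.card_congr ((Units.mapEquiv φ.toMulEquiv).trans (Aut.unitsEndEquivAut A)).toEquiv]

/-- Two copies as a biproduct. -/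
def twoIso (A : C) : A ⊞ A ≅ ⨁ fun _ : Fin 2 => A where
  hom := biprod.desc (biproduct.ι (fun _ : Fin 2 => A) 0) (biproduct.ι (fun _ : Fin 2 => A) 1)
  inv := biproduct.desc fun i => if i = 0 then biprod.inl else biprod.inr
  hom_inv_id := by apply biprod.hom_ext' <;> simp
  inv_hom_id := by
    refine biproduct.hom_ext' _ _ fun i => ?_
    fin_cases i <;> simp

/-- Three copies as a biproduct. -/
def threeIso (A : C) : A ⊞ (A ⊞ A) ≅ ⨁ fun _ : Fin 3 => A where
  hom := biprod.desc (biproduct.ι (fun _ : Fin 3 => A) 0)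
    (biprod.desc (biproduct.ι (fun _ : Fin 3 => A) 1) (biproduct.ι (fun _ : Fin 3 => A) 2))
  inv := biproduct.desc fun i =>
    if i = 0 then biprod.inl else if i = 1 then biprod.inl ≫ biprod.inr else biprod.inr ≫ biprod.inr
  hom_inv_id := by
    apply biprod.hom_ext'
    · simp
    · apply biprod.hom_ext' <;> simp
  inv_hom_id := by
    refine biproduct.hom_ext' _ _ fun i => ?_
    fin_cases i <;> simp

/-- Associativity of binary biproducts. -/
def assocIso (A B D : C) : (A ⊞ B) ⊞ D ≅ A ⊞ (B ⊞ D) where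
  hom := biprod.desc (biprod.desc biprod.inl (biprod.inl ≫ biprod.inr)) (biprod.inr ≫ biprod.inr)
  inv := biprod.desc (biprod.inl ≫ biprod.inl) (biprod.desc (biprod.inr ≫ biprod.inl) biprod.inr)
  hom_inv_id := by
    apply biprod.hom_ext'
    · apply biprod.hom_ext' <;> simp
    · simp
  inv_hom_id := by
    apply biprod.hom_ext'
    · simp
    · apply biprod.hom_ext' <;> simp

end Cat

variable {k : Type u} [Field k] {X : Scheme.{u}} [X.Over (Spec (CommRingCat.of k))]
  [IsIntegral X] [IsProper (X ↘ Spec (CommRingCat.of k))]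

open GrothLib.QCoh (stalkLin)
open GrothLib.CurveMult (endScalar)

/-- On a curve with a rational point every endomorphism of an invertible module is a constant. -/
theorem endScalar_bijective (hd : topologicalKrullDim X ≤ 1) {x : X}
    (hx : Function.Surjective (Curv2.resMap k X x)) {L : X.Modules} (hL : PicF.IsInvertible L) :
    Function.Bijective (endScalar k L) := by
  haveI : Nonempty X := ⟨x⟩
  haveI : Nontrivial (End L) := ⟨⟨𝟙 L, 0, fun h => ASBun21.not_isZero_of_isInvertible hL
    ((IsZero.iff_id_eq_zero L).2 h)⟩⟩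
  refine ⟨(endScalar k L).injective, fun φ => ?_⟩
  obtain ⟨D, e, hxD, he⟩ := FinCov.exists_frame_nhd_of_rank (Euler.isFinLocFreeOfRank_one' hL) x
  obtain ⟨b⟩ := Euler.stalk_basis_of_frame he hxD
  obtain ⟨g, hg⟩ : ∃ g : X.presheaf.stalk x, stalkLin φ x (b 0) = g • b 0 :=
    ⟨b.repr (stalkLin φ x (b 0)) 0, (by simpa using (b.sum_repr (stalkLin φ x (b 0))).symm)⟩
  obtain ⟨c, hc⟩ := hx (IsLocalRing.residue _ g)
  refine ⟨c, sub_eq_zero.1 (by_contra fun h => ?_)⟩
  obtain ⟨q, hq, hiso⟩ := Euler.deg_le_of_ne_zero k hd hL hL h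
  haveI : IsIso (endScalar k L c - φ) := hiso (by omega)
  obtain ⟨v, hv⟩ := (Euler.stalkLin_bijective_of_isIso (endScalar k L c - φ) x).2 (b 0)
  rw [show v = b.repr v 0 • b 0 by simpa using (b.sum_repr v).symm, map_smul,
    show endScalar k L c = Euler.smulMod L (Coh.toGlobal (X ↘ Spec (CommRingCat.of k)) c) from rfl,
    Euler.stalkLin_sub_apply, Euler.stalkLin_smulMod, hg, ← sub_smul, smul_smul] at hv
  have h1 := congrArg (fun t => b.repr t 0) hv
  simp only [map_smul, Finsupp.smul_apply, Module.Basis.repr_self, Finsupp.single_eq_same, smul_eq_mul, mul_one] at h1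
  have h2 := congrArg (IsLocalRing.residue _) h1
  rw [map_mul, map_one, map_sub] at h2
  have h3 : IsLocalRing.residue _ (X.presheaf.germ ⊤ x trivial (Coh.toGlobal (X ↘ Spec (CommRingCat.of k)) c)) =
      IsLocalRing.residue _ g := hc
  rw [h3, sub_self, mul_zero] at h2
  exact zero_ne_one h2

/-- Non-isomorphic invertible modules of the same degree have no maps between them. -/
theorem hom_eq_zero (hd : topologicalKrullDim X ≤ 1) {L M : X.Modules} (hL : PicF.IsInvertible L)
    (hM : PicF.IsInvertible M) (hdeg : Curv2.deg k X M 1 ≤ Curv2.deg k X L 1)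
    (hne : ¬ Nonempty (L ≅ M)) (f : L ⟶ M) : f = 0 := by
  by_contra h
  obtain ⟨q, hq, hiso⟩ := Euler.deg_le_of_ne_zero k hd hL hM h
  haveI : IsIso f := hiso (by omega)
  exact hne ⟨asIso f⟩

end GrothLib.AutSum11
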