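import Mathlib.CategoryTheory.Linear.Basic
import Mathlib.CategoryTheory.Abelian.Basic
import Mathlib.Algebra.Homology.ShortComplex.ShortExact
import Mathlib.CategoryTheory.Endomorphism
import Mathlib.SetTheory.Cardinal.Finite
import Mathlib.Data.Fintype.Units
import Mathlib.GroupTheory.OrderOfElement
import Mathlib.Tactic.Module
import Mathlib.Tactic.FieldSimp
import Mathlib.Tactic.Ring
import Mathlib.Tactic.LinearCombination

/-!
# Automorphisms of a nonsplit self-extension of a brick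
-/

set_option autoImplicit false

universe v u

open CategoryTheory CategoryTheory.Limits

noncomputable section

namespace GrothLib.AutSum11

variable {C : Type u} [Category.{v} C] [Abelian C] (k : Type*) [Field k] [Linear k C]
  {S : ShortComplex C} (hS : S.ShortExact) {A : C} (e₁ : S.X₁ ≅ A) (e₃ : S.X₃ ≅ A)
  (hA : Function.Bijective fun c : k => c • 𝟙 A) (hns : ¬ IsSplitEpi S.g)

/-- The inclusion. -/
abbrev sInc : A ⟶ S.X₂ := e₁.inv ≫ S.f
/-- The projection. -/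
abbrev sPrj : S.X₂ ⟶ A := S.g ≫ e₃.hom

theorem sInc_sPrj : sInc e₁ ≫ sPrj e₃ = 0 := by simp [S.zero_assoc]

theorem sInc_sPrj_assoc {Z : C} (w : A ⟶ Z) : sInc e₁ ≫ sPrj e₃ ≫ w = 0 := by simp [S.zero_assoc]

include hA in
theorem smul_id_eq_zero {c : k} (h : c • 𝟙 A = 0) : c = 0 :=
  hA.1 (by simpa using h)

include hS e₁ e₃ hA hns in
theorem exists_inc (u : A ⟶ S.X₂) : ∃ c : k, u = c • sInc e₁ := by
  haveI := hS.mono_f
  obtain ⟨b, hb : b • 𝟙 A = u ≫ sPrj e₃⟩ := hA.2 (u ≫ sPrj e₃)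
  by_cases h : b = 0
  · subst h
    have h0 : u ≫ S.g = 0 := by
      rw [zero_smul] at hb
      rw [← cancel_mono e₃.hom, zero_comp, Category.assoc]
      exact hb.symm
    obtain ⟨t, ht⟩ := KernelFork.IsLimit.lift' hS.fIsKernel u h0
    obtain ⟨c, hc : c • 𝟙 A = t ≫ e₁.hom⟩ := hA.2 (t ≫ e₁.hom)
    refine ⟨c, ht.symm.trans ?_⟩
    calc t ≫ S.f = (t ≫ e₁.hom) ≫ sInc e₁ := by simp
      _ = _ := by rw [← hc, Linear.smul_comp, Category.id_comp]
  · refine absurd (IsSplitEpi.mk' ⟨e₃.hom ≫ (b⁻¹ • u), ?_⟩) hns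
    have h1 : (b⁻¹ • u) ≫ S.g = e₃.inv := by
      rw [← cancel_mono e₃.hom, Category.assoc, Linear.smul_comp, ← hb, smul_smul, inv_mul_cancel₀ h, one_smul,
        Iso.inv_hom_id]
    rw [Category.assoc, h1, Iso.hom_inv_id]

include hS e₁ e₃ hA hns in
theorem exists_prj (v : S.X₂ ⟶ A) : ∃ c : k, v = c • sPrj e₃ := by
  haveI := hS.epi_g
  obtain ⟨b, hb : b • 𝟙 A = sInc e₁ ≫ v⟩ := hA.2 (sInc e₁ ≫ v)
  by_cases h : b = 0
  · subst h
    have h0 : S.f ≫ v = 0 := by
      rw [zero_smul, Category.assoc] at hb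
      rw [← cancel_epi e₁.inv, comp_zero]
      exact hb.symm
    obtain ⟨t, ht⟩ := CokernelCofork.IsColimit.desc' hS.gIsCokernel v h0
    obtain ⟨c, hc : c • 𝟙 A = e₃.inv ≫ t⟩ := hA.2 (e₃.inv ≫ t)
    refine ⟨c, ht.symm.trans ?_⟩
    calc S.g ≫ t = sPrj e₃ ≫ e₃.inv ≫ t := by simp
      _ = _ := by rw [← hc, Linear.comp_smul, Category.comp_id]
  · have hr : S.f ≫ (b⁻¹ • v) ≫ e₁.inv = 𝟙 S.X₁ := by
      rw [← cancel_epi e₁.inv, ← Category.assoc e₁.inv, ← Category.assoc (e₁.inv ≫ S.f), Linear.comp_smul,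
        ← hb, smul_smul, inv_mul_cancel₀ h, one_smul, Category.id_comp, Category.comp_id]
    let s : S.Splitting := ShortComplex.Splitting.ofExactOfRetraction _ hS.exact _ hr hS.epi_g
    exact absurd (IsSplitEpi.mk' s.splitEpi_g) hns

/-- The endomorphisms `a + c·(inclusion ∘ projection)`. -/
def endM (x : k × k) : S.X₂ ⟶ S.X₂ := x.1 • 𝟙 S.X₂ + x.2 • (sPrj e₃ ≫ sInc e₁)

theorem endM_mul (x y : k × k) :
    endM k e₁ e₃ x ≫ endM k e₁ e₃ y = endM k e₁ e₃ (x.1 * y.1, x.1 * y.2 + x.2 * y.1) := by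
  simp [endM, Preadditive.comp_add, Preadditive.add_comp, Linear.comp_smul, Linear.smul_comp, sInc_sPrj_assoc, S.zero_assoc, smul_smul, add_smul]
  module

include hS e₁ e₃ hA hns in
theorem endM_bijective : Function.Bijective (endM k (S := S) e₁ e₃) := by
  haveI := hS.mono_f
  haveI := hS.epi_g
  refine ⟨fun x y hxy => ?_, fun φ => ?_⟩
  · have h1 : x.1 • sInc e₁ = y.1 • sInc e₁ := by
      simpa [endM, Preadditive.comp_add, Linear.comp_smul, S.zero_assoc] using congrArg (sInc e₁ ≫ ·) hxy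
    have a : x.1 = y.1 := hA.1 ((cancel_mono (sInc e₁)).1 (by simpa [Linear.smul_comp] using h1))
    have h2 : x.2 • (sPrj e₃ ≫ sInc e₁) = y.2 • (sPrj e₃ ≫ sInc e₁) := by
      simp only [endM, a] at hxy
      exact add_left_cancel hxy
    have b : x.2 = y.2 := hA.1 ((cancel_mono (sInc e₁)).1 ((cancel_epi (sPrj e₃)).1 (by
      simpa [Linear.smul_comp, Linear.comp_smul] using h2)))
    exact Prod.ext a b
  · obtain ⟨a, ha⟩ := exists_inc k hS e₁ e₃ hA hns (sInc e₁ ≫ φ)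
    have h0 : S.f ≫ (φ - a • 𝟙 S.X₂) = 0 := by
      rw [← cancel_epi e₁.inv, comp_zero, ← Category.assoc, Preadditive.comp_sub, ha, Linear.comp_smul,
        Category.comp_id, sub_self]
    obtain ⟨t, ht⟩ := CokernelCofork.IsColimit.desc' hS.gIsCokernel _ h0
    obtain ⟨c, hc⟩ := exists_inc k hS e₁ e₃ hA hns (e₃.inv ≫ t)
    refine ⟨(a, c), ?_⟩
    have h3 : φ - a • 𝟙 S.X₂ = c • (sPrj e₃ ≫ sInc e₁) := by
      calc φ - a • 𝟙 S.X₂ = sPrj e₃ ≫ e₃.inv ≫ t := by rw [← ht]; simp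
        _ = _ := by rw [hc, Linear.comp_smul]
    simp only [endM]
    rw [← h3]
    abel

include hS e₁ e₃ hA hns in
theorem card_aut_selfExt [Finite k] :
    Nat.card (Aut S.X₂) = (Nat.card k - 1) * Nat.card k := by
  obtain ⟨inj, surj⟩ := endM_bijective k hS e₁ e₃ hA hns
  have one : endM k e₁ e₃ (1, 0) = (𝟙 S.X₂ : S.X₂ ⟶ S.X₂) := by simp [endM]
  let f : kˣ × k → (End S.X₂)ˣ := fun x =>
    { val := endM k e₁ e₃ (x.1, x.2)
      inv := endM k e₁ e₃ ((x.1⁻¹ : kˣ), -(x.2 * (x.1⁻¹ : kˣ) * (x.1⁻¹ : kˣ)))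
      val_inv := by
        rw [End.mul_def, endM_mul, End.one_def, ← one]
        congr 1
        simp only [Units.val_inv_eq_inv_val]
        refine Prod.ext ?_ ?_ <;> field_simp <;> ring
      inv_val := by
        rw [End.mul_def, endM_mul, End.one_def, ← one]
        congr 1
        simp only [Units.val_inv_eq_inv_val]
        refine Prod.ext ?_ ?_ <;> field_simp <;> ring }
  have hf : Function.Bijective f := by
    refine ⟨fun x y h => ?_, fun u => ?_⟩
    · have := inj (congrArg Units.val h)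
      simp only [Prod.mk.injEq] at this
      exact Prod.ext (Units.ext this.1) this.2
    · obtain ⟨x, hx⟩ := surj u.val
      obtain ⟨y, hy⟩ := surj u.inv
      have h := u.inv_val
      rw [← hx, ← hy, End.mul_def, endM_mul, End.one_def, ← one] at h
      have h' := congrArg Prod.fst (inj h)
      exact ⟨(Units.mk0 x.1 (left_ne_zero_of_mul_eq_one h'), x.2), Units.ext hx⟩
  rw [← Nat.card_units, ← Nat.card_prod]
  exact (Nat.card_congr ((Equiv.ofBijective f hf).trans (Aut.unitsEndEquivAut S.X₂).toEquiv)).symm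

/-- The endomorphisms of the sum of the brick and the extension. -/
def sumM (x : k × k × k × k × k) : A ⊞ S.X₂ ⟶ A ⊞ S.X₂ :=
  x.1 • (biprod.fst ≫ biprod.inl) + x.2.1 • (biprod.fst ≫ sInc e₁ ≫ biprod.inr) +
    x.2.2.1 • (biprod.snd ≫ sPrj e₃ ≫ biprod.inl) + x.2.2.2.1 • (biprod.snd ≫ biprod.inr) +
    x.2.2.2.2 • (biprod.snd ≫ sPrj e₃ ≫ sInc e₁ ≫ biprod.inr)

theorem sumM_mul (a c c' d e a₁ c₁ c₁' d₁ e₁' : k) :
    sumM k e₁ e₃ (a, c, c', d, e) ≫ sumM k e₁ e₃ (a₁, c₁, c₁', d₁, e₁') =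
      sumM k e₁ e₃ (a * a₁, a * c₁ + c * d₁, c' * a₁ + d * c₁', d * d₁, d * e₁' + e * d₁ + c' * c₁) := by
  simp [sumM, Preadditive.comp_add, Preadditive.add_comp, Linear.comp_smul, Linear.smul_comp, S.zero_assoc, smul_smul, add_smul]
  module

include hS e₁ e₃ hA hns in
theorem sumM_bijective : Function.Bijective (sumM k (S := S) e₁ e₃) := by
  haveI := hS.mono_f
  haveI := hS.epi_g
  obtain ⟨inj, surj⟩ := endM_bijective k hS e₁ e₃ hA hns
  refine ⟨fun x y hxy => ?_, fun φ => ?_⟩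
  · obtain ⟨a, c, c', d, e⟩ := x
    obtain ⟨a₁, c₁, c₁', d₁, e₁'⟩ := y
    have h1 : a • 𝟙 A = a₁ • 𝟙 A := by
      simpa [sumM, Preadditive.comp_add, Preadditive.add_comp, Linear.comp_smul, Linear.smul_comp] using congrArg (fun t => biprod.inl ≫ t ≫ biprod.fst) hxy
    have h2 : c • sInc e₁ = c₁ • sInc e₁ := by
      simpa [sumM, Preadditive.comp_add, Preadditive.add_comp, Linear.comp_smul, Linear.smul_comp] using congrArg (fun t => biprod.inl ≫ t ≫ biprod.snd) hxy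
    have h3 : c' • sPrj e₃ = c₁' • sPrj e₃ := by
      simpa [sumM, Preadditive.comp_add, Preadditive.add_comp, Linear.comp_smul, Linear.smul_comp] using congrArg (fun t => biprod.inr ≫ t ≫ biprod.fst) hxy
    have h4 : endM k e₁ e₃ (d, e) = endM k e₁ e₃ (d₁, e₁') := by
      simpa [sumM, endM, Preadditive.comp_add, Preadditive.add_comp, Linear.comp_smul, Linear.smul_comp] using congrArg (fun t => biprod.inr ≫ t ≫ biprod.snd) hxy
    obtain ⟨rfl, rfl⟩ := Prod.mk.injEq .. ▸ inj h4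
    obtain rfl := hA.1 h1
    obtain rfl : c = c₁ := hA.1 ((cancel_mono (sInc e₁)).1 (by simpa [Linear.smul_comp] using h2))
    obtain rfl : c' = c₁' := hA.1 ((cancel_epi (sPrj e₃)).1 (by simpa [Linear.comp_smul] using h3))
    rfl
  · obtain ⟨a, ha : a • 𝟙 A = biprod.inl ≫ φ ≫ biprod.fst⟩ := hA.2 (biprod.inl ≫ φ ≫ biprod.fst)
    obtain ⟨c, hc⟩ := exists_inc k hS e₁ e₃ hA hns (biprod.inl ≫ φ ≫ biprod.snd)
    obtain ⟨c', hc'⟩ := exists_prj k hS e₁ e₃ hA hns (biprod.inr ≫ φ ≫ biprod.fst)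
    obtain ⟨⟨d, e⟩, hde⟩ := surj (biprod.inr ≫ φ ≫ biprod.snd)
    refine ⟨(a, c, c', d, e), ?_⟩
    apply biprod.hom_ext' <;> apply biprod.hom_ext <;> simp only [Category.assoc]
    · rw [← ha]; simp [sumM, Preadditive.comp_add, Preadditive.add_comp, Linear.comp_smul, Linear.smul_comp]
    · rw [hc]; simp [sumM, Preadditive.comp_add, Preadditive.add_comp, Linear.comp_smul, Linear.smul_comp]
    · rw [hc']; simp [sumM, Preadditive.comp_add, Preadditive.add_comp, Linear.comp_smul, Linear.smul_comp]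
    · rw [← hde]; simp [sumM, endM, Preadditive.comp_add, Preadditive.add_comp, Linear.comp_smul, Linear.smul_comp]

include hS e₁ e₃ hA hns in
theorem card_aut_sum_selfExt [Finite k] :
    Nat.card (Aut (A ⊞ S.X₂)) = (Nat.card k - 1) ^ 2 * Nat.card k ^ 3 := by
  obtain ⟨inj, surj⟩ := sumM_bijective k hS e₁ e₃ hA hns
  have one : sumM k e₁ e₃ (1, 0, 0, 1, 0) = (𝟙 (A ⊞ S.X₂) : A ⊞ S.X₂ ⟶ A ⊞ S.X₂) := by simp [sumM, Preadditive.comp_add, Preadditive.add_comp, Linear.comp_smul, Linear.smul_comp]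
  let f : kˣ × k × k × kˣ × k → (End (A ⊞ S.X₂))ˣ := fun ⟨a, c, c', d, e⟩ =>
    { val := sumM k e₁ e₃ (a, c, c', d, e)
      inv := sumM k e₁ e₃ ((a : k)⁻¹, -(c * ((a : k)⁻¹ * (d : k)⁻¹)), -(c' * ((a : k)⁻¹ * (d : k)⁻¹)),
        (d : k)⁻¹, -(e * ((d : k)⁻¹ * (d : k)⁻¹)) + c' * c * ((a : k)⁻¹ * ((d : k)⁻¹ * (d : k)⁻¹)))
      val_inv := by
        rw [End.mul_def, sumM_mul, End.one_def, ← one]
        congr 1
        have := a.ne_zero
        have := d.ne_zero
        simp only [Prod.mk.injEq]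
        refine ⟨?_, ?_, ?_, ?_, ?_⟩ <;> field_simp <;> ring
      inv_val := by
        rw [End.mul_def, sumM_mul, End.one_def, ← one]
        congr 1
        have := a.ne_zero
        have := d.ne_zero
        simp only [Prod.mk.injEq]
        refine ⟨?_, ?_, ?_, ?_, ?_⟩ <;> field_simp <;> ring }
  have hf : Function.Bijective f := by
    refine ⟨fun x y h => ?_, fun u => ?_⟩
    · have := inj (congrArg Units.val h)
      simp only [Prod.mk.injEq] at this
      obtain ⟨h1, h2, h3, h4, h5⟩ := this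
      exact Prod.ext (Units.ext h1) (Prod.ext h2 (Prod.ext h3 (Prod.ext (Units.ext h4) h5)))
    · obtain ⟨⟨a, c, c', d, e⟩, hx⟩ := surj u.val
      obtain ⟨⟨a₁, c₁, c₁', d₁, e₁'⟩, hy⟩ := surj u.inv
      have h := u.inv_val
      rw [← hx, ← hy, End.mul_def, sumM_mul, End.one_def, ← one] at h
      have h' := inj h
      simp only [Prod.mk.injEq] at h'
      exact ⟨(Units.mk0 a (left_ne_zero_of_mul_eq_one h'.1), c, c', Units.mk0 d (left_ne_zero_of_mul_eq_one h'.2.2.2.1), e),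
        Units.ext hx⟩
  have hc := Nat.card_congr ((Equiv.ofBijective f hf).trans (Aut.unitsEndEquivAut (A ⊞ S.X₂)).toEquiv)
  rw [← hc, Nat.card_prod, Nat.card_prod, Nat.card_prod, Nat.card_prod, Nat.card_units]
  ring

end GrothLib.AutSum11
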